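import Groth.Agent.PTorsCdLib.Gen
import Groth.Agent.EtShLib.FiniteBC
import Groth.Agent.EtShLib.GenerateKilled
import Groth.Agent.EtShLib.ShriekPush
import Groth.Agent.EtShLib.FibCount
import Groth.Agent.FinSurjLib.Zmt
import Groth.Agent.TopDimLib.QuasiFinite
import Groth.Agent.NeutralGenLib.Basic

/-!
# Comparison of `f_! ℤ/p` with a finite direct image of `ℤ/p`
-/

set_option autoImplicit false
set_option linter.style.haveILetI false
set_option linter.unusedSectionVars false
set_option backward.isDefEq.respectTransparency false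
set_option backward.isDefEq.respectTransparency.types false
set_option synthInstance.maxHeartbeats 400000
set_option maxHeartbeats 2000000

universe u

open CategoryTheory CategoryTheory.Limits CategoryTheory.Abelian AlgebraicGeometry Opposite Topology
open Groth.Agent.EtShLib

noncomputable section

namespace PTorsCdLib

theorem hom_ext_one (p : ℕ) {N : AddCommGrpCat.{u + 1}} {a b : AddCommGrpCat.of (ULift.{u + 1} (ZMod p)) ⟶ N}
    (h : a (ULift.up 1) = b (ULift.up 1)) : a = b := by
  ext ⟨m⟩
  have hm : (ULift.up m : ULift.{u + 1} (ZMod p)) = (m.cast : ℤ) • ULift.up 1 :=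
    ULift.ext _ _ (by show m = ((m.cast : ℤ) • (1 : ZMod p)); simp)
  rw [hm, map_zsmul, map_zsmul, h]

theorem exists_algClosed_pt {X : Scheme.{u}} (x : X) :
    ∃ (Ω : Type u) (_ : Field Ω) (_ : IsAlgClosed Ω) (ξ : Spec (CommRingCat.of Ω) ⟶ X), ξ.base default = x :=
  ⟨AlgebraicClosure (X.residueField x), inferInstance, inferInstance,
    (Scheme.SpecToEquivOfField (AlgebraicClosure (X.residueField x)) X).2
      ⟨x, CommRingCat.ofHom (algebraMap (X.residueField x) _)⟩, by simp [Scheme.SpecToEquivOfField]⟩

variable {Z : Scheme.{u}} [IsNoetherian Z] [Z.IsSeparated]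

/-- `f_! ℤ/p` maps to a finite direct image of `ℤ/p`, bijectively on stalks at maximal points. -/
theorem exists_graph_map (p : ℕ) (U : Z.Etale) [IsAffine U.left] :
    ∃ (V : Scheme.{u}) (π : V ⟶ Z) (_ : IsFinite π), topologicalKrullDim V ≤ topologicalKrullDim Z ∧
      ∃ ψ : EtPBC.extZeroConst U (ZMod p) ⟶ (EtCoh.push π).obj (EtCoh.const V (ZMod p)),
        ∀ x : Z, DivSeqLib.IsMaxPt x → ∃ (Ω : Type u) (_ : Field Ω) (_ : IsSepClosed Ω)
          (ξ : Spec (CommRingCat.of Ω) ⟶ Z), ξ.base default = x ∧
            IsIso ((stk (A := AddCommGrpCat.{u + 1}) ξ).map ψ) := by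
  classical
  let f : U.left ⟶ Z := U.hom
  haveI : AlgebraicGeometry.Etale f := U.prop
  haveI : IsSeparated f := inferInstance
  haveI : QuasiCompact f := inferInstance
  haveI := locallyQuasiFinite_of_etale f
  haveI : LocallyOfFinitePresentation f := inferInstance
  obtain ⟨T, j, π₀, hj, hjq, hπ₀, -, hjπ⟩ := FinSurjLib.exists_finite_factorization f
  haveI := hj
  haveI := hjq
  haveI := hπ₀
  let V := j.image
  let j' : U.left ⟶ V := j.toImage
  let π : V ⟶ Z := j.imageι ≫ π₀
  haveI : IsFinite π := inferInstanceAs (IsFinite (j.imageι ≫ π₀))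
  have hj'π : j' ≫ π = U.hom := by
    show j' ≫ j.imageι ≫ π₀ = _
    rw [← Category.assoc, show j' ≫ j.imageι = j from j.toImage_imageι]
    exact hjπ
  haveI : IsOpenImmersion j' := by
    have hp : IsPullback (𝟙 U.left) j' j j.imageι :=
      IsPullback.of_isLimit (PullbackCone.IsLimit.mk (by rw [Category.id_comp]; exact j.toImage_imageι.symm)
        (fun s => s.fst) (fun s => Category.comp_id _)
        (fun s => (cancel_mono j.imageι).1 ((Category.assoc _ _ _).trans ((congrArg (s.fst ≫ ·) j.toImage_imageι).trans s.condition)))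
        (fun s m hm _ => (Category.comp_id m).symm.trans hm))
    exact MorphismProperty.of_isPullback hp ‹IsOpenImmersion j›
  haveI : IsDominant j' := inferInstanceAs (IsDominant j.toImage)
  haveI : IsLocallyNoetherian V := LocallyOfFiniteType.isLocallyNoetherian π
  haveI : CompactSpace V := QuasiCompact.compactSpace_of_compactSpace π
  haveI : IsNoetherian V := { }
  refine ⟨V, π, inferInstance, Groth.Agent.TopDimLib.topologicalKrullDim_le_of_injOn_specializes (g := fun v => π.base v)
    π.continuous (fun _ _ h he => Groth.Agent.TopDimLib.eq_of_specializes_of_quasiFinite π h he), ?_⟩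
  let P : V.Etale := (EtCoh.bc π).obj U
  let A : V.Etale := MorphismProperty.Over.mk ⊤ j' (inferInstance : AlgebraicGeometry.Etale j')
  let a : A ⟶ P := MorphismProperty.Over.homMk (pullback.lift (𝟙 U.left) j' ((Category.id_comp _).trans hj'π.symm))
    (pullback.lift_snd _ _ _)
  have ha1 : a.left ≫ pullback.fst U.hom π = 𝟙 U.left := pullback.lift_fst _ _ _
  haveI : IsSeparated π := inferInstance
  haveI : IsClosedImmersion a.left := by
    haveI : IsClosedImmersion (a.left ≫ pullback.fst U.hom π) := by rw [ha1]; exact MorphismProperty.id_mem (W := @IsClosedImmersion) _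
    exact IsClosedImmersion.of_comp a.left (pullback.fst U.hom π)
  haveI : IsOpenImmersion a.left := by
    haveI := etale_left a
    exact IsOpenImmersion.of_flat_of_mono _
  let O : P.left.Opens := ⟨(Set.range a.left.base)ᶜ, a.left.isClosedEmbedding.isClosed_range.isOpen_compl⟩
  haveI : AlgebraicGeometry.Etale P.hom := P.prop
  let B : V.Etale := MorphismProperty.Over.mk ⊤ (O.ι ≫ P.hom) (inferInstance : AlgebraicGeometry.Etale (O.ι ≫ P.hom))
  let b : B ⟶ P := MorphismProperty.Over.homMk O.ι rfl
  haveI : IsOpenImmersion b.left := inferInstanceAs (IsOpenImmersion O.ι)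
  have hb : Set.range b.left.base = (Set.range a.left.base)ᶜ := Scheme.Opens.range_ι O
  let C := EtCoh.const V (ZMod p)
  let M : AddCommGrpCat.{u + 1} := AddCommGrpCat.of (ULift.{u + 1} (ZMod p))
  let tA : A ⟶ EtCoh.top V := MorphismProperty.Over.homMk A.hom (Category.comp_id _)
  let η : M ⟶ C.obj.obj (op A) := cstUnit V M ≫ C.obj.map tA.op
  obtain ⟨t, hta, htb⟩ := exists_glue C a b (by rw [hb]; exact disjoint_compl_right)
    (by rw [hb]; exact Set.union_compl_self _) (η (ULift.up 1))
  have hC : p • 𝟙 C = 0 := CdOneLib.nsmul_id_const p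
  have ht0 : p • t = 0 := by
    rw [← EtTransferLib.nsmul_id_app C p P t]
    exact congrArg (fun s : C ⟶ C => s.hom.app (op P) t) hC
  obtain ⟨ψ, hψ⟩ := exists_hom_of_torsion (F := (EtCoh.push π).obj C) U p t ht0
  refine ⟨ψ, fun x hx => ?_⟩
  obtain ⟨Ω, _, _, ξ, hξ⟩ := exists_algClosed_pt x
  refine ⟨Ω, inferInstance, inferInstance, ξ, hξ, ?_⟩
  let S := stk (A := AddCommGrpCat.{u + 1}) ξ
  -- lifts of the geometric point
  let lift : Fib ξ U → {l : Spec (CommRingCat.of Ω) ⟶ V // l ≫ π = ξ} := fun v =>
    ⟨v.hom ≫ j', by rw [Category.assoc, hj'π]; exact v.w⟩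
  have hlift : Function.Injective lift := fun v w h => Fib.ext ((cancel_mono j').1 (congrArg Subtype.val h))
  have hsurj : Function.Surjective lift := fun l => by
    let q := l.1.base default
    have hq : π.base q = x := (congrArg (fun t : Spec (CommRingCat.of Ω) ⟶ Z => t.base default) l.2).trans hξ
    haveI : PrespectralSpace (U.left : Type u) := inferInstance
    haveI : IsLocallyNoetherian U.left := LocallyOfFiniteType.isLocallyNoetherian f
    haveI : IsNoetherian U.left := { }
    obtain ⟨d, -, hd⟩ := Groth.Agent.NeutralGen.exists_specializes_of_mem_closure_image j'.continuous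
      (E := Set.univ) IsConstructible.univ (y := q) (by rw [Set.image_univ, j'.denseRange.closure_range]; trivial)
    have he : π.base (j'.base d) = x := hx _ (hq ▸ hd.map π.continuous)
    have hdq : j'.base d = q := Groth.Agent.TopDimLib.eq_of_specializes_of_quasiFinite π hd (he.trans hq.symm)
    have hr : Set.range l.1.base ⊆ Set.range j'.base := by
      rintro _ ⟨c, rfl⟩
      exact ⟨d, hdq.trans (congrArg l.1.base (Subsingleton.elim _ _))⟩
    refine ⟨Fib.mk (IsOpenImmersion.lift j' l.1 hr) ?_, Subtype.ext (IsOpenImmersion.lift_fac j' l.1 hr)⟩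
    rw [← hj'π, ← Category.assoc, IsOpenImmersion.lift_fac]
    exact l.2
  let w : ∀ v : Fib ξ U, Fib (lift v).1 A := fun v => Fib.mk (U := A) v.hom rfl
  have hw : ∀ v, (w v).map a = Fib.liftU π (lift v) v := fun v => Fib.ext (pullback.hom_ext
    ((Category.assoc _ _ _).trans ((congrArg (v.hom ≫ ·) ha1).trans ((Category.comp_id _).trans
      (pullback.lift_fst _ _ _).symm)))
    ((Category.assoc _ _ _).trans ((congrArg (v.hom ≫ ·) (pullback.lift_snd _ _ _)).trans
      (pullback.lift_snd _ _ _).symm)))
  let ε : ∀ v : Fib ξ U, M ⟶ (stk (A := AddCommGrpCat.{u + 1}) (lift v).1).obj C :=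
    fun v => η ≫ germ (lift v).1 C A (w v)
  have hε : ∀ v, Function.Bijective (ε v) := fun v => by
    haveI := (isCst_cstUnit (X := V) M).map tA Ω (lift v).1 (w v)
    exact ConcreteCategory.bijective_of_isIso _
  let e : ∀ v : Fib ξ U, M ⟶ S.obj (EtPBC.extZeroConst U (ZMod p)) :=
    fun v => extConstSec U (ZMod p) ≫ germ ξ _ U v
  have hval : ∀ v v' : Fib ξ U, liftGerm π C ξ (lift v) (S.map ψ (e v' (ULift.up 1))) =
      if v' = v then ε v (ULift.up 1) else 0 := fun v v' => by
    have h1 : S.map ψ (e v' (ULift.up 1)) =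
        germ (A := AddCommGrpCat.{u + 1}) ξ ((EtCoh.push π).obj C) U v' t := by
      show S.map ψ ((germ (A := AddCommGrpCat.{u + 1}) ξ (EtPBC.extZeroConst U (ZMod p)) U v') (extConstSec U (ZMod p) (ULift.up 1))) = _
      rw [germ_natural_apply, hψ]
    rw [h1, liftGerm_germ]
    split_ifs with h
    · subst h
      rw [← hw, ← germ_res_apply, hta]
      rfl
    · let z := Fib.liftU π (lift v) v'
      have hz : z.pt ∈ Set.range b.left.base := by
        rw [hb]
        intro hm
        have hr : Set.range z.hom.base ⊆ Set.range a.left.base := by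
          rintro _ ⟨c, rfl⟩
          rw [Subsingleton.elim c default]
          exact hm
        let m := IsOpenImmersion.lift a.left z.hom hr
        have hm' : m ≫ a.left = z.hom := IsOpenImmersion.lift_fac _ _ _
        have h2 : m = v'.hom := ((Category.comp_id m).symm.trans ((congrArg (m ≫ ·) ha1.symm).trans
          ((Category.assoc _ _ _).symm.trans (congrArg (· ≫ pullback.fst U.hom π) hm')))).trans
            (pullback.lift_fst _ _ _)
        have h3 : m ≫ j' = v.hom ≫ j' := ((congrArg (m ≫ ·)
          (pullback.lift_snd (𝟙 U.left) j' ((Category.id_comp _).trans hj'π.symm)).symm).trans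
          ((Category.assoc _ _ _).symm.trans (congrArg (· ≫ pullback.snd U.hom π) hm'))).trans
            (pullback.lift_snd _ _ _)
        exact h (Fib.ext ((cancel_mono j').1 (h2 ▸ h3)))
      have hr : Set.range z.hom.base ⊆ Set.range b.left.base := by
        rintro _ ⟨c, rfl⟩
        rw [Subsingleton.elim c default]
        exact hz
      let m : Fib (lift v).1 B := Fib.mk (IsOpenImmersion.lift b.left z.hom hr) (by
        show _ ≫ O.ι ≫ P.hom = _
        rw [← Category.assoc]
        exact (congrArg (· ≫ P.hom) (IsOpenImmersion.lift_fac b.left z.hom hr)).trans z.w)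
      rw [show Fib.liftU π (lift v) v' = m.map b from Fib.ext (IsOpenImmersion.lift_fac b.left z.hom hr).symm,
        ← germ_res_apply, htb, map_zero]
  haveI : Finite (Fib ξ U) := by
    haveI := finite_lifts f ξ
    exact Finite.of_injective (fun v : Fib ξ U => (⟨v.hom, v.w⟩ : GeomLifts f ξ))
      fun v w h => Fib.ext (congrArg Subtype.val h)
  haveI := Fintype.ofFinite (Fib ξ U)
  have hval' : ∀ (v v' : Fib ξ U) (m : M), liftGerm π C ξ (lift v) (S.map ψ (e v' m)) =
      if v' = v then ε v m else 0 := fun v v' m => by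
    by_cases h : v' = v
    · rw [if_pos h]
      exact congrArg (fun q : M ⟶ _ => q m)
        (hom_ext_one p (a := e v' ≫ S.map ψ ≫ liftGerm π C ξ (lift v)) (b := ε v) ((hval v v').trans (if_pos h)))
    · rw [if_neg h]
      exact congrArg (fun q : M ⟶ _ => q m)
        (hom_ext_one p (a := e v' ≫ S.map ψ ≫ liftGerm π C ξ (lift v)) (b := 0) ((hval v v').trans (if_neg h)))
  have hsum : ∀ (c : Fib ξ U → M) (v : Fib ξ U),
      liftGerm π C ξ (lift v) (S.map ψ (∑ v', e v' (c v'))) = ε v (c v) := fun c v => by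
    rw [map_sum, map_sum, Finset.sum_eq_single v (fun v' _ hv => (hval' v v' _).trans (if_neg hv))
      (fun h => absurd (Finset.mem_univ _) h)]
    exact (hval' v v _).trans (if_pos rfl)
  have hspan : ∀ q : S.obj (EtPBC.extZeroConst U (ZMod p)), ∃ c : Fib ξ U → M, ∑ v', e v' (c v') = q := fun q => by
    let σ : (Fib ξ U → M) →+ S.obj (EtPBC.extZeroConst U (ZMod p)) :=
      AddMonoidHom.mk' (fun c => ∑ v', e v' (c v')) fun c d => by
        rw [← Finset.sum_add_distrib]
        exact Finset.sum_congr rfl fun v' _ => map_add (e v').hom _ _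
    obtain ⟨h₀, -, huniq⟩ := existsUnique_stalk_extConst U (ZMod p) ξ
      (N := AddCommGrpCat.of (_ ⧸ σ.range)) (fun _ => 0)
    have e1 : AddCommGrpCat.ofHom (QuotientAddGroup.mk' σ.range) = h₀ := huniq _ fun v => by
      ext m
      refine (QuotientAddGroup.eq_zero_iff _).2 ⟨Pi.single v ⟨m.down⟩, ?_⟩
      show ∑ v', e v' ((Pi.single v m : Fib ξ U → M) v') = e v m
      rw [Finset.sum_eq_single v (fun v' _ hv => by rw [Pi.single_eq_of_ne hv, map_zero])
        (fun h => absurd (Finset.mem_univ _) h), Pi.single_eq_same]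
    have e2 : (0 : S.obj (EtPBC.extZeroConst U (ZMod p)) ⟶ AddCommGrpCat.of (_ ⧸ σ.range)) = h₀ :=
      huniq _ fun v => by rw [comp_zero, comp_zero]
    exact (QuotientAddGroup.eq_zero_iff q).1 (congrArg (fun r : S.obj (EtPBC.extZeroConst U (ZMod p)) ⟶
      AddCommGrpCat.of (_ ⧸ σ.range) => r q) (e1.trans e2.symm))
  have hinj : ∀ y, (∀ v, liftGerm π C ξ (lift v) y = 0) → y = 0 := fun y hy =>
    liftGerm_jointly_injective π C ξ y fun l => by
      obtain ⟨v, rfl⟩ := hsurj l
      exact hy v
  refine (ConcreteCategory.isIso_iff_bijective _).2 ⟨(injective_iff_map_eq_zero _).2 fun q hq => ?_, fun y => ?_⟩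
  · obtain ⟨c, rfl⟩ := hspan q
    refine Finset.sum_eq_zero fun v _ => ?_
    have h0 := hsum c v
    rw [hq, map_zero] at h0
    rw [(hε v).1 (h0.symm.trans (map_zero (ε v).hom).symm), map_zero]
  · choose c hc using fun v => (hε v).2 (liftGerm π C ξ (lift v) y)
    refine ⟨∑ v', e v' (c v'), sub_eq_zero.1 (hinj _ fun v => ?_)⟩
    rw [map_sub, hsum, hc, sub_self]

end PTorsCdLib

end
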