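import Groth.Agent.PTorsCdLib.Point
import Groth.Agent.PTorsCdLib.Graph
import Groth.Agent.AsCohLib.Main
import Groth.Agent.EtLamFinLib.Core
import Groth.Agent.FibDimLib.FieldExt
import Groth.Agent.EtStrictAcycLib.Main

/-!
# `p`-torsion sheaves on proper schemes in characteristic `p`
-/

set_option autoImplicit false
set_option linter.style.haveILetI false
set_option linter.unusedSectionVars false
set_option backward.isDefEq.respectTransparency false
set_option backward.isDefEq.respectTransparency.types false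
set_option synthInstance.maxHeartbeats 400000
set_option maxHeartbeats 2000000

universe u

open CategoryTheory CategoryTheory.Limits CategoryTheory.Abelian AlgebraicGeometry Opposite Topology
open Groth.Agent.EtShLib

noncomputable section

namespace PTorsCdLib

attribute [local instance] EtSliceLib.pullExact

variable {X : Scheme.{u}}

theorem torsionBy_of_nsmul {F : EtCoh.Ab X} {p : ℕ} (h : p • 𝟙 F = 0) : TorsionBy (fun m => m = p) F := by
  intro Ω _ _ ξ x
  refine ⟨p, rfl, ?_⟩
  let S := stk (A := AddCommGrpCat.{u + 1}) ξ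
  have h' : p • 𝟙 (S.obj F) = 0 := by rw [← S.map_id, ← S.map_nsmul, h, Functor.map_zero]
  exact congrArg (fun a : S.obj F ⟶ S.obj F => a x) h'

theorem torsionBy_pull {T : Scheme.{u}} (f : T ⟶ X) {ok : ℕ → Prop} {F : EtCoh.Ab X} (h : TorsionBy ok F) :
    TorsionBy ok ((EtCoh.pull f).obj F) := by
  intro Ω _ _ ξ p
  let e := (stalkPull f ξ AddCommGrpCat.{u + 1}).app F
  obtain ⟨m, hm, h0⟩ := h Ω (ξ ≫ f) (e.inv p)
  refine ⟨m, hm, ?_⟩
  have := congrArg e.hom h0
  rwa [map_nsmul, map_zero, ← ConcreteCategory.comp_apply, e.inv_hom_id, ConcreteCategory.id_apply] at this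

theorem isSeparated_of_over {k : Type u} [Field k] (f : X ⟶ Spec (CommRingCat.of k)) [IsSeparated f] :
    X.IsSeparated :=
  ⟨by rw [← terminal.comp_from f]; infer_instance⟩

variable {k : Type u} [Field k] [IsSepClosed k] {p : ℕ} [hp : Fact p.Prime] [CharP k p]

/-- One degree above the dimension, for sheaves `f_! ℤ/p`. -/
theorem subsingleton_H_extZero (f : X ⟶ Spec (CommRingCat.of k)) [IsProper f] (n : ℕ)
    (hX : topologicalKrullDim X ≤ n) (ih : ∀ m, m < n → Van k p m) (U : X.Etale) [IsAffine U.left] :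
    Subsingleton (EtCoh.H X (EtPBC.extZeroConst U (ZMod p)) (n + 1)) := by
  haveI : IsLocallyNoetherian X := LocallyOfFiniteType.isLocallyNoetherian f
  haveI : CompactSpace X := QuasiCompact.compactSpace_of_compactSpace f
  haveI : IsNoetherian X := { }
  haveI := isSeparated_of_over f
  obtain ⟨V, π, hπ, hV, ψ, hψ⟩ := exists_graph_map p U
  haveI := hπ
  haveI : (EtCoh.push π).Additive := { }
  have hA : p • 𝟙 (EtPBC.extZeroConst U (ZMod p)) = 0 := nsmul_id_extConst U p
  have hB : p • 𝟙 ((EtCoh.push π).obj (EtCoh.const V (ZMod p))) = 0 :=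
    CdPrimeLib.nsmul_id_map (EtCoh.push π) (EtStrictAcycLib.nsmul_id_const p)
  refine subsingleton_of_map ψ n
    (small f n hX ih _ (nsmul_id_kernel ψ hA) (zeroAtMax_of_exists _ fun x hx => ?_) (n + 1) (Nat.le_succ n))
    (small f n hX ih _ (nsmul_id_cokernel ψ hB) (zeroAtMax_of_exists _ fun x hx => ?_) n le_rfl) ?_
  · obtain ⟨Ω, i1, i2, ξ, e, hi⟩ := hψ x hx
    exact ⟨Ω, i1, i2, ξ, e, (isZero_stk_kernel_cokernel ψ ξ hi).1⟩
  · obtain ⟨Ω, i1, i2, ξ, e, hi⟩ := hψ x hx
    exact ⟨Ω, i1, i2, ξ, e, (isZero_stk_kernel_cokernel ψ ξ hi).2⟩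
  · haveI := AsCohLib.subsingleton_above_dim p (π ≫ f) n (hV.trans hX) n le_rfl
    exact ⟨fun a b => (Groth.Agent.S14451.result π (EtCoh.const V (ZMod p))
      (fun j hj => isZero_rightDerived_push_finite π _ j hj) (n + 1)).1 (Subsingleton.elim _ _)⟩

/-- One degree above the dimension, for constructible sheaves. -/
theorem subsingleton_H_cons (f : X ⟶ Spec (CommRingCat.of k)) [IsProper f] (n : ℕ)
    (hX : topologicalKrullDim X ≤ n) (ih : ∀ m, m < n → Van k p m) (G : EtCoh.Ab X)
    (hG : IsCons (A := AddCommGrpCat.{u + 1}) FinP G) (hp' : p • 𝟙 G = 0) :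
    Subsingleton (EtCoh.H X G (n + 1)) := by
  haveI : IsLocallyNoetherian X := LocallyOfFiniteType.isLocallyNoetherian f
  haveI : CompactSpace X := QuasiCompact.compactSpace_of_compactSpace f
  haveI : IsNoetherian X := { }
  obtain ⟨a, U, m, hm, φ, hφ⟩ := exists_epi_cons hG (torsionBy_of_nsmul hp') (fun m hm => hm ▸ hp.out.pos)
  haveI := hφ
  let P := ⨁ fun i => EtPBC.extZeroConst (U i) (ZMod (m i))
  have hP : p • 𝟙 P = 0 := nsmul_id_biproduct _ fun i => by
    rw [(hm i).1]
    exact nsmul_id_extConst (U i) p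
  have hP0 : Subsingleton (EtCoh.H X P (n + 1)) := subsingleton_H_biproduct _ _ fun i => by
    haveI := (hm i).2
    rw [(hm i).1]
    exact subsingleton_H_extZero f n hX ih (U i)
  let S : ShortComplex (EtCoh.Ab X) := ShortComplex.mk (kernel.ι φ) φ (kernel.condition _)
  have hS : S.ShortExact :=
    { exact := ShortComplex.exact_of_f_is_kernel _ (kernelIsKernel _)
      mono_f := inferInstanceAs (Mono (kernel.ι φ))
      epi_g := hφ }
  refine subsingleton_of_forall_eq 0 fun y => ?_
  obtain ⟨z, hz⟩ := Ext.covariant_sequence_exact₃ _ hS (y : Ext.{u + 1} _ S.X₃ (n + 1)) (n₁ := n + 2) rfl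
    ((van_two f n hX ih (kernel φ) (nsmul_id_kernel φ hP) (n + 2) le_rfl).elim _ _)
  rw [← hz, show z = 0 from hP0.elim _ _, Ext.zero_comp]

/-- Representing a class by a constructible subsheaf. -/
theorem exists_cons_sub [IsNoetherian X] (F : EtCoh.Ab X) (hF : TorsionBy (fun m => 0 < m) F) (q : ℕ)
    (x : EtCoh.H X F q) :
    ∃ (I : EtCoh.Ab X) (ι : I ⟶ F) (_ : Mono ι), IsCons (A := AddCommGrpCat.{u + 1}) FinP I ∧
      ∃ z : EtCoh.H X I q, Ext.comp (z : Ext.{u + 1} _ _ q) (Ext.mk₀ ι) (add_zero q) = x := by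
  haveI := isFiltered_consOver F
  haveI := CovDevLib.preservesColimits_H (S := X) q (ConsOver F)
  obtain ⟨hc⟩ := nonempty_isColimit_consCocone F hF
  obtain ⟨r, z, hz⟩ := CovDevLib.exists_rep_of_colimit (𝟭 (EtCoh.Ab X))
    (Abelian.extFunctorObj.{u + 1} (EtCoh.const X ℤ) q) hc x
  have hz' : Ext.comp (z : Ext.{u + 1} _ _ q) (Ext.mk₀ ((consCocone F).ι.app r)) (add_zero q) = x := hz
  let g := (consCocone F).ι.app r
  refine ⟨Abelian.image g, Abelian.image.ι g, inferInstance,
    cons_of_epi (Abelian.factorThruImage g) (PresOver.isCons (F := F) r),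
    Ext.comp (z : Ext.{u + 1} _ _ q) (Ext.mk₀ (Abelian.factorThruImage g)) (add_zero q), ?_⟩
  rw [Ext.comp_assoc_of_second_deg_zero, Ext.mk₀_comp_mk₀, Abelian.image.fac]
  exact hz'

variable (k p) in
/-- Vanishing above the dimension. -/
theorem van : ∀ n, Van k p n := by
  intro n
  induction n using Nat.strong_induction_on with
  | _ n ih =>
    intro Z f hf hd F hF q hq
    by_cases h : n + 2 ≤ q
    · exact van_two f n hd ih F hF q h
    obtain rfl : q = n + 1 := by omega
    haveI : IsLocallyNoetherian Z := LocallyOfFiniteType.isLocallyNoetherian f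
    haveI : CompactSpace Z := QuasiCompact.compactSpace_of_compactSpace f
    haveI : IsNoetherian Z := { }
    refine subsingleton_of_forall_eq 0 fun x => ?_
    obtain ⟨I, ι, hι, hI, z, rfl⟩ := exists_cons_sub F
      (torsionBy_of_isTorsion (CdOneLib.isTorsion_of_nsmul_id p hp.out.pos hF)) (n + 1) x
    haveI := hι
    rw [(subsingleton_H_cons f n hd ih I hI (nsmul_id_of_mono ι hF)).elim z 0, Ext.zero_comp]

/-- Sheaves killed by a power of `p`. -/
theorem subsingleton_H_killed_pow (f : X ⟶ Spec (CommRingCat.of k)) [IsProper f] (n : ℕ)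
    (hX : topologicalKrullDim X ≤ n) (N : ℕ) :
    ∀ F : EtCoh.Ab X, (p ^ N) • 𝟙 F = 0 → ∀ q : ℕ, n < q → Subsingleton (EtCoh.H X F q) := by
  induction N with
  | zero =>
    intro F hF q _
    rw [pow_zero, one_smul] at hF
    exact EtBcBridgeLib.subsingleton_H_of_isZero ((IsZero.iff_id_eq_zero F).2 hF) q
  | succ N ih =>
    intro F hF q hq
    let g : F ⟶ F := p • 𝟙 F
    let S : ShortComplex (EtCoh.Ab X) := ShortComplex.mk (kernel.ι g) (Abelian.factorThruImage g)
      ((cancel_mono (Abelian.image.ι g)).1 (by rw [Category.assoc, Abelian.image.fac, kernel.condition, zero_comp]))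
    have hS : S.ShortExact :=
      { exact := ShortComplex.exact_of_f_is_kernel _ (KernelFork.IsLimit.ofι' _ _ fun a ha =>
          ⟨kernel.lift g a (by rw [← Abelian.image.fac g, ← Category.assoc, ha, zero_comp]), kernel.lift_ι _ _ _⟩)
        mono_f := inferInstanceAs (Mono (kernel.ι g))
        epi_g := inferInstanceAs (Epi (Abelian.factorThruImage g)) }
    have hI : (p ^ N) • 𝟙 S.X₃ = 0 := by
      haveI : Epi S.g := hS.epi_g
      rw [← cancel_epi S.g, Preadditive.comp_nsmul, Category.comp_id, comp_zero]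
      show (p ^ N) • Abelian.factorThruImage g = 0
      rw [← cancel_mono (Abelian.image.ι g), Preadditive.nsmul_comp, Abelian.image.fac, zero_comp,
        show g = p • 𝟙 F from rfl, ← mul_smul, ← pow_succ, hF]
    exact subsingleton_mid hS q (van k p n X f inferInstance hX _ (EtKummerLib.nsmul_id_kernel F p) q hq)
      (ih _ hI q hq)

/-- Sheaves all of whose stalks are `p`-primary. -/
theorem subsingleton_H_pPrimary (f : X ⟶ Spec (CommRingCat.of k)) [IsProper f] (n : ℕ)
    (hX : topologicalKrullDim X ≤ n) (F : EtCoh.Ab X) (hF : TorsionBy (fun m => ∃ j, m = p ^ j) F) (q : ℕ)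
    (hq : n < q) : Subsingleton (EtCoh.H X F q) := by
  haveI : IsLocallyNoetherian X := LocallyOfFiniteType.isLocallyNoetherian f
  haveI : CompactSpace X := QuasiCompact.compactSpace_of_compactSpace f
  haveI : IsNoetherian X := { }
  have hpos : ∀ m, (∃ j, m = p ^ j) → 0 < m := fun m ⟨j, hj⟩ => hj ▸ pow_pos hp.out.pos j
  refine subsingleton_of_forall_eq 0 fun x => ?_
  obtain ⟨I, ι, hι, hI, z, rfl⟩ := exists_cons_sub F (fun Ω _ _ ξ y => by
    obtain ⟨m, hm, h0⟩ := hF Ω ξ y
    exact ⟨m, hpos m hm, h0⟩) q x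
  haveI := hι
  obtain ⟨a, U, m, hm, φ, hφ⟩ := exists_epi_cons hI (hF.of_mono ι) hpos
  haveI := hφ
  choose j hj using fun i => (hm i).1
  have hN : (p ^ ∑ i, j i) • 𝟙 I = 0 := nsmul_id_of_epi φ (nsmul_id_biproduct _ fun i => by
    obtain ⟨c, hc⟩ := pow_dvd_pow p (Finset.single_le_sum (f := j) (fun _ _ => Nat.zero_le _) (Finset.mem_univ i))
    rw [hc, mul_comm, mul_smul, ← hj i, nsmul_id_extConst, smul_zero])
  rw [(subsingleton_H_killed_pow f n hX _ I hN q hq).elim z 0, Ext.zero_comp]

end PTorsCdLib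

end
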