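import Groth.Agent.PTorsCdLib.Small
import Groth.Agent.CdCurveLib.PushPt

/-!
# Direct images from maximal points, and vanishing two degrees above the dimension
-/

set_option autoImplicit false
set_option linter.style.haveILetI false
set_option linter.unusedSectionVars false
set_option backward.isDefEq.respectTransparency false
set_option backward.isDefEq.respectTransparency.types false
set_option synthInstance.maxHeartbeats 400000
set_option maxHeartbeats 2000000

universe u

open CategoryTheory CategoryTheory.Limits CategoryTheory.Abelian AlgebraicGeometry Opposite Topology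
open Groth.Agent.EtShLib SkySumLib CdCurveLib

noncomputable section

namespace PTorsCdLib

attribute [local instance] EtSliceLib.pullExact

variable {k : Type u} [Field k] {p : ℕ} [hp : Fact p.Prime] [CharP k p]

theorem charP_residueField {Z : Scheme.{u}} (f : Z ⟶ Spec (CommRingCat.of k)) (x : Z) :
    CharP (Z.residueField x) p :=
  charP_of_injective_ringHom ((Spec.preimage (Z.fromSpecResidueField x ≫ f)).hom.injective) p

/-- `H^q(Z, x_* G) = 0` for `q ≥ n + 2`. -/
theorem subsingleton_H_pushPt {Z : Scheme.{u}} (f : Z ⟶ Spec (CommRingCat.of k)) [IsProper f] (n : ℕ)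
    (hZ : topologicalKrullDim Z ≤ n) (ih : ∀ m, m < n → Van k p m) (x : Z) (hx : DivSeqLib.IsMaxPt x)
    (G : EtCoh.Ab (Spec (Z.residueField x))) (hG : p • 𝟙 G = 0) (q : ℕ) (hq : n + 2 ≤ q) :
    Subsingleton (EtCoh.H Z ((EtCoh.push (Z.fromSpecResidueField x)).obj G) q) := by
  haveI : IsLocallyNoetherian Z := LocallyOfFiniteType.isLocallyNoetherian f
  haveI : CompactSpace Z := QuasiCompact.compactSpace_of_compactSpace f
  haveI : IsNoetherian Z := { }
  haveI := charP_residueField (p := p) f x
  let i := Z.fromSpecResidueField x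
  let K := Z.residueField x
  haveI : QuasiCompact i := quasiCompact_of_compactSpace _
  haveI : QuasiSeparated i := inferInstance
  haveI : (EtCoh.push i).Additive := { }
  haveI : PreservesLimitsOfSize.{0, 0} (EtCoh.push i) := (EtCoh.pullPushAdj i).rightAdjoint_preservesLimits
  haveI : PreservesFiniteLimits (EtCoh.push i) := PreservesLimitsOfSize.preservesFiniteLimits _
  let ip := (EnoughInjectives.presentation G).some
  haveI : Injective ip.J := ip.injective
  let J := killedSub ip.J p
  let j : G ⟶ J := kernel.lift _ ip.f (by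
    rw [Preadditive.comp_nsmul, Category.comp_id, ← Category.id_comp ip.f, ← Preadditive.nsmul_comp, hG, zero_comp])
  haveI : Mono (j ≫ kernel.ι (p • 𝟙 ip.J)) := by rw [kernel.lift_ι]; infer_instance
  haveI : Mono j := mono_of_mono j (kernel.ι (p • 𝟙 ip.J))
  let S : ShortComplex (EtCoh.Ab (Spec K)) := ShortComplex.mk j (cokernel.π j) (cokernel.condition _)
  have hS : S.ShortExact := { exact := ShortComplex.exact_of_g_is_cokernel _ (cokernelIsCokernel _) }
  have hJ : p • 𝟙 J = 0 := nsmul_id_killedSub ip.J p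
  have hCp : p • 𝟙 S.X₃ = 0 := nsmul_id_cokernel j hJ
  have hfree : ∀ (V : (Spec K).Etale) (m : ℕ), 1 ≤ m → Subsingleton (Ext.{u + 1} (EtSliceLib.free V) J m) :=
    fun V m hm => by
      obtain ⟨m', rfl⟩ : ∃ m', m = m' + 1 := ⟨m - 1, by omega⟩
      exact Groth.Agent.ConsEffaceLib.subsingleton_ext_killed p hp.out.pos (Groth.Agent.ConsEffaceLib.mono_nsmul_free V p hp.out.pos) m'
  have hRJ : ∀ m : ℕ, 0 < m → IsZero ((EtCoh.Rpush i m).obj J) := fun m hm => by
    obtain ⟨m', rfl⟩ : ∃ m', m = m' + 1 := ⟨m - 1, by omega⟩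
    refine EtAcycLib.isZero_Rpush_of_killed i m' _ fun W y w => ?_
    exact ⟨W, 𝟙 W, ⟨w, rfl⟩, (hfree ((EtCoh.bc i).obj W) (m' + 1) (by omega)).elim _ _⟩
  have hRC : ∀ m : ℕ, 0 < m → IsZero ((EtCoh.Rpush i m).obj S.X₃) := fun m hm => by
    obtain ⟨m', rfl⟩ : ∃ m', m = m' + 1 := ⟨m - 1, by omega⟩
    refine EtAcycLib.isZero_Rpush_of_killed i m' _ fun W y w => ?_
    obtain ⟨W', φ, w', hw', hW'⟩ := SkySumLib.exists_affine W w
    refine ⟨W', φ, ⟨w', hw'⟩, ?_⟩
    haveI := hW'
    haveI : CompactSpace ↥((EtCoh.bc i).obj W').left := (bc_mem_qcqsObj i (V := W')).1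
    let V := (EtCoh.bc i).obj W'
    let y' : Ext.{u + 1} (EtSliceLib.free V) S.X₃ (m' + 1) :=
      (Ext.mk₀ (EtSliceLib.freeMap ((EtCoh.bc i).map φ))).comp y (zero_add (m' + 1))
    let φ' : V.left ⟶ Spec (CommRingCat.of K) := V.hom
    haveI : AlgebraicGeometry.Etale φ' := V.prop
    haveI : IsFinite φ' := EtTransferLib.isFinite_of_etale_compact φ'
    haveI : (EtCoh.pull φ').IsLeftAdjoint := (EtCoh.pullPushAdj φ').isLeftAdjoint
    haveI : (EtCoh.pull φ').Additive := { }
    haveI : (EtCoh.push φ').Additive := { }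
    haveI : Subsingleton (Ext.{u + 1} (EtSliceLib.free V) G (m' + 2)) := by
      let G' := (EtCoh.pull φ').obj G
      haveI := subsingleton_H_field (K := K) p ((EtCoh.push φ').obj G')
        (CdPrimeLib.nsmul_id_map (EtCoh.push φ') (CdPrimeLib.nsmul_id_map (EtCoh.pull φ') hG)) (m' + 2) (by omega)
      haveI : Subsingleton (EtCoh.H V.left G' (m' + 2)) :=
        (Groth.Agent.S14451.result φ' G' (fun j hj => isZero_rightDerived_push_finite φ' G' j hj)
          (m' + 2)).2.subsingleton
      exact ⟨fun a b => (EtSliceLib.psi_bijective V (m' + 2) G).1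
        (Subsingleton.elim (α := EtCoh.H V.left G' (m' + 2)) _ _)⟩
    obtain ⟨z, hz⟩ := Ext.covariant_sequence_exact₃ _ hS y' (n₁ := m' + 2) rfl (Subsingleton.elim _ _)
    show y' = 0
    rw [← hz, (hfree V (m' + 1) (by omega)).elim z 0, Ext.zero_comp]
  have hJ0 : ∀ m : ℕ, 1 ≤ m → Subsingleton (EtCoh.H (Spec K) J m) := fun m hm => by
    obtain ⟨m', rfl⟩ : ∃ m', m = m' + 1 := ⟨m - 1, by omega⟩
    exact Groth.Agent.ConsEffaceLib.subsingleton_ext_killed p hp.out.pos
      (Groth.Agent.ConsEffaceLib.mono_nsmul_constZ p hp.out.pos) m'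
  have hpJ : ∀ m : ℕ, 1 ≤ m → Subsingleton (EtCoh.H Z ((EtCoh.push i).obj J) m) := fun m hm => by
    haveI := hJ0 m hm
    exact ⟨fun a b => (Groth.Agent.S14451.result i J hRJ m).1 (Subsingleton.elim _ _)⟩
  have hpC : ∀ m : ℕ, 1 ≤ m → Subsingleton (EtCoh.H Z ((EtCoh.push i).obj S.X₃) m) := fun m hm => by
    haveI : Subsingleton (EtCoh.H (Spec K) S.X₃ m) := by
      refine subsingleton_of_forall_eq 0 fun y => ?_
      obtain ⟨z, hz⟩ := Ext.covariant_sequence_exact₃ _ hS (y : Ext.{u + 1} _ S.X₃ m) (n₁ := m + 1) rfl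
        ((subsingleton_H_field (K := K) p G hG (m + 1) (by omega)).elim _ _)
      rw [← hz, show z = 0 from (hJ0 m hm).elim _ _, Ext.zero_comp]
    exact ⟨fun a b => (Groth.Agent.S14451.result i S.X₃ hRC m).1 (Subsingleton.elim _ _)⟩
  let g := (EtCoh.push i).map S.g
  have hQ : ZeroAtMax (cokernel g) := fun Ω _ _ ξ h => by
    let T := stk (A := AddCommGrpCat.{u + 1}) ξ
    haveI : Epi (T.map g) := by
      by_cases hξx : ξ.base default = x
      · obtain ⟨ζ, rfl⟩ := exists_factor i ξ (by rw [Scheme.range_fromSpecResidueField, hξx]; exact rfl)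
        haveI := isIso_compare (A := AddCommGrpCat.{u + 1}) i ζ (refines_point x ζ) S.X₂
        haveI := isIso_compare (A := AddCommGrpCat.{u + 1}) i ζ (refines_point x ζ) S.X₃
        haveI : Epi S.g := hS.epi_g
        have e : (stk (A := AddCommGrpCat.{u + 1}) (ζ ≫ i)).map g =
            compare i ζ S.X₂ ≫ (stk (A := AddCommGrpCat.{u + 1}) ζ).map S.g ≫ inv (compare i ζ S.X₃) := by
          rw [← Category.assoc, ← stk_map_compare, Category.assoc, IsIso.hom_inv_id, Category.comp_id]
        show Epi ((stk (A := AddCommGrpCat.{u + 1}) (ζ ≫ i)).map g)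
        rw [e]
        infer_instance
      · have hz : IsZero (T.obj ((EtCoh.push i).obj S.X₃)) := by
          haveI : Subsingleton (T.obj ((EtCoh.push i).obj S.X₃)) := by
            have hns : ¬ x ⤳ ξ.base default := fun hs => hξx (h x hs).symm
            refine subsingleton_stalk ξ (T := (closure ({x} : Set Z))ᶜ) isClosed_closure.isOpen_compl
              (fun h => hns (specializes_iff_mem_closure.2 h)) fun U hU => ?_
            haveI : IsEmpty ((EtCoh.bc i).obj U).left := ⟨fun z =>
              hU ⟨_, rfl⟩ (by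
                rw [show U.hom.base ((pullback.fst U.hom i).base z) = x from fibre_over z]
                exact subset_closure rfl)⟩
            exact subsingleton_sect_of_isEmpty S.X₃ ((EtCoh.bc i).obj U)
          exact AddCommGrpCat.isZero_of_subsingleton _
        exact ⟨fun a b _ => hz.eq_of_src a b⟩
    exact IsZero.of_iso (isZero_cokernel_of_epi _) (PreservesCokernel.iso T g)
  haveI := hS.mono_f
  let S1 : ShortComplex (EtCoh.Ab Z) := ShortComplex.mk ((EtCoh.push i).map S.f) (Abelian.factorThruImage g)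
    ((cancel_mono (Abelian.image.ι g)).1 (by
      rw [Category.assoc, Abelian.image.fac, ← Functor.map_comp, S.zero, Functor.map_zero, zero_comp]))
  let S2 : ShortComplex (EtCoh.Ab Z) := ShortComplex.mk (Abelian.image.ι g) (cokernel.π g) (kernel.condition _)
  have hS1 : S1.ShortExact :=
    { exact := by
        have hker : IsLimit (KernelFork.ofι ((EtCoh.push i).map S.f)
            (show (EtCoh.push i).map S.f ≫ g = 0 by rw [← Functor.map_comp, S.zero, Functor.map_zero])) :=
          KernelFork.mapIsLimit _ hS.fIsKernel (EtCoh.push i)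
        refine ShortComplex.exact_of_f_is_kernel _ ?_
        exact KernelFork.IsLimit.ofι' _ _ fun a ha =>
          ⟨hker.lift (KernelFork.ofι a (by rw [← Abelian.image.fac g, ← Category.assoc, ha, zero_comp])),
            hker.fac _ WalkingParallelPair.zero⟩
      mono_f := inferInstanceAs (Mono ((EtCoh.push i).map S.f))
      epi_g := inferInstanceAs (Epi (Abelian.factorThruImage g)) }
  have hS2 : S2.ShortExact :=
    { exact := ShortComplex.exact_of_f_is_kernel _ (kernelIsKernel _)
      mono_f := inferInstanceAs (Mono (Abelian.image.ι g))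
      epi_g := inferInstanceAs (Epi (cokernel.π g)) }
  obtain ⟨q', rfl⟩ : ∃ q', q = q' + 1 + 1 := ⟨q - 2, by omega⟩
  refine subsingleton_left hS1 (q' + 1) ?_ (hpJ (q' + 1 + 1) (by omega))
  exact subsingleton_left hS2 q'
    (small f n hZ ih (cokernel g) (nsmul_id_cokernel g (CdPrimeLib.nsmul_id_map (EtCoh.push i) hCp)) hQ q' (by omega))
    (hpC (q' + 1) (by omega))

/-- Vanishing two degrees above the dimension. -/
theorem van_two {Z : Scheme.{u}} (f : Z ⟶ Spec (CommRingCat.of k)) [IsProper f] (n : ℕ)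
    (hZ : topologicalKrullDim Z ≤ n) (ih : ∀ m, m < n → Van k p m) (F : EtCoh.Ab Z) (hF : p • 𝟙 F = 0) (q : ℕ)
    (hq : n + 2 ≤ q) : Subsingleton (EtCoh.H Z F q) := by
  haveI : IsLocallyNoetherian Z := LocallyOfFiniteType.isLocallyNoetherian f
  haveI : CompactSpace Z := QuasiCompact.compactSpace_of_compactSpace f
  haveI : IsNoetherian Z := { }
  classical
  obtain ⟨q', rfl⟩ : ∃ q', q = q' + 1 := ⟨q - 1, by omega⟩
  have hE : p • 𝟙 (⨁ fun x : MPt Z => KP F x.1) = 0 := nsmul_id_biproduct _ fun x => by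
    haveI : (EtCoh.push (Z.fromSpecResidueField x.1)).Additive := { }
    haveI : (EtCoh.pull (Z.fromSpecResidueField x.1)).IsLeftAdjoint :=
      (EtCoh.pullPushAdj (Z.fromSpecResidueField x.1)).isLeftAdjoint
    haveI : (EtCoh.pull (Z.fromSpecResidueField x.1)).Additive := { }
    exact CdPrimeLib.nsmul_id_map (EtCoh.push (Z.fromSpecResidueField x.1))
      (CdPrimeLib.nsmul_id_map (EtCoh.pull (Z.fromSpecResidueField x.1)) hF)
  refine subsingleton_of_map (uMax Z F) q'
    (small f n hZ ih _ (nsmul_id_kernel _ hF) (fun Ω _ _ ξ h => ?_) (q' + 1) (by omega))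
    (small f n hZ ih _ (nsmul_id_cokernel _ hE) (fun Ω _ _ ξ h => ?_) q' (by omega))
    (subsingleton_H_biproduct _ _ fun x => ?_)
  · exact (isZero_stk_kernel_cokernel (uMax Z F) ξ (isIso_stk_uMax Z F ξ h)).1
  · exact (isZero_stk_kernel_cokernel (uMax Z F) ξ (isIso_stk_uMax Z F ξ h)).2
  · haveI : (EtCoh.pull (Z.fromSpecResidueField x.1)).IsLeftAdjoint :=
      (EtCoh.pullPushAdj (Z.fromSpecResidueField x.1)).isLeftAdjoint
    haveI : (EtCoh.pull (Z.fromSpecResidueField x.1)).Additive := { }
    exact subsingleton_H_pushPt f n hZ ih x.1 x.2 _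
      (CdPrimeLib.nsmul_id_map (EtCoh.pull (Z.fromSpecResidueField x.1)) hF) (q' + 1) (by omega)

end PTorsCdLib

end
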