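import Groth.Agent.PTorsCdLib.Main
import Groth.Agent.EtPBCProperLib.Main
import Groth.Agent.S0620

/-!
# Higher direct images of `p`-primary sheaves
-/

set_option autoImplicit false
set_option linter.style.haveILetI false
set_option linter.unusedSectionVars false
set_option backward.isDefEq.respectTransparency false
set_option backward.isDefEq.respectTransparency.types false
set_option synthInstance.maxHeartbeats 400000
set_option maxHeartbeats 2000000

universe u

open CategoryTheory CategoryTheory.Limits CategoryTheory.Abelian AlgebraicGeometry Opposite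
open Groth.Agent.EtShLib

noncomputable section

namespace PTorsCdLib

theorem torsionBy_of_sections {X : Scheme.{u}} {p : ℕ} {F : EtCoh.Ab X}
    (hF : ∀ (U : X.Etale) (s : EtCoh.sect F U), ∃ k : ℕ, p ^ k • s = 0) :
    TorsionBy (fun m => ∃ j, m = p ^ j) F := by
  intro Ω _ _ ξ x
  obtain ⟨U, u, s, rfl⟩ := exists_germ ξ x
  obtain ⟨j, hj⟩ := hF U s
  exact ⟨p ^ j, ⟨j, rfl⟩, by rw [← map_nsmul, hj, map_zero]⟩

theorem topologicalKrullDim_geomFibre {X S : Scheme.{u}} (f : X ⟶ S) [LocallyOfFiniteType f] (s : S) (Ω : Type u)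
    [Field Ω] [Algebra (S.residueField s) Ω] :
    topologicalKrullDim ↑(pullback f (EtAcyc.geomPt S s Ω)) = topologicalKrullDim (f.fiber s) := by
  let g := f.fiberToSpecResidueField s
  haveI : LocallyOfFiniteType g := MorphismProperty.pullback_snd _ _ ‹_›
  let a := Spec.map (CommRingCat.ofHom (algebraMap (S.residueField s) Ω))
  have sq : IsPullback (pullback.fst g a ≫ f.fiberι s) (pullback.snd g a) f (EtAcyc.geomPt S s Ω) :=
    (IsPullback.of_hasPullback g a).paste_horiz (IsPullback.of_hasPullback f (S.fromSpecResidueField s))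
  refine ((Scheme.homeoOfIso sq.isoPullback).isHomeomorph.topologicalKrullDim_eq).symm.trans ?_
  exact FibDimLib.topologicalKrullDim_pullback_field (S.residueField s) Ω g

theorem isZero_Rpush {X S : Scheme.{u}} (f : X ⟶ S) [IsProper f] [EtCoh.BCCont f] (p : ℕ) [hp : Fact p.Prime]
    (hS : (p : Γ(S, ⊤)) = 0) (n : ℕ) (hdim : ∀ s : S, topologicalKrullDim (f.fiber s) ≤ n)
    (F : EtCoh.Ab X) (hF : TorsionBy (fun m => ∃ j, m = p ^ j) F) (q : ℕ) (hq : n < q) :
    IsZero ((EtCoh.Rpush f q).obj F) := by
  refine EtPBCProperLib.isZero_of_geomPt_stalks _ fun s => ?_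
  let R := HenselLib.SH (S.presheaf.stalk s)
  have hR : Hensel.IsStrictHenselization (S.presheaf.stalk s) R := inferInstance
  haveI : IsSepClosed (IsLocalRing.ResidueField R) := hR.isSepClosure.sep_closed
  refine ⟨R, inferInstance, inferInstance, inferInstance, inferInstance, inferInstance, ?_⟩
  obtain ⟨e⟩ := Groth.Agent.S0620.result f F s R q
  refine e.addCommGroupIsoToAddEquiv.toEquiv.subsingleton_congr.2 ?_
  let Ω := AlgebraicClosure (S.residueField s)
  have hT : EtCoh.IsTorsion F := CdCurveLib.isTorsion_of_torsionBy fun Ω _ _ ξ y => by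
    obtain ⟨m, ⟨j, rfl⟩, h0⟩ := hF Ω ξ y
    exact ⟨_, pow_pos hp.out.pos j, h0⟩
  refine (EtPBCProperLib.subsingleton_sh_iff (EtPBCProperLib.good_of_isProper f) s R Ω F hT q).2 ?_
  haveI : CharP (S.residueField s) p := by
    refine (CharP.charP_iff_prime_eq_zero hp.out).2 ?_
    have h := congrArg (S.evaluation ⊤ s trivial).hom hS
    rwa [map_natCast, map_zero] at h
  haveI : CharP Ω p := charP_of_injective_algebraMap (algebraMap (S.residueField s) Ω).injective p
  haveI : IsProper (pullback.snd f (EtAcyc.geomPt S s Ω)) := MorphismProperty.pullback_snd _ _ ‹_›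
  exact subsingleton_H_pPrimary (pullback.snd f (EtAcyc.geomPt S s Ω)) n
    ((topologicalKrullDim_geomFibre f s Ω).trans_le (hdim s)) _
    (torsionBy_pull _ hF) q hq

end PTorsCdLib

end
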