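import Groth.Agent.CdOneLib.CharP
import Groth.Agent.CdOneLib.Torsion
import Groth.Agent.CdPrimeLib.Push
import Groth.Agent.EtBcBridgeLib.Criterion
import Groth.Agent.ConsEffaceLib.Main
import Groth.Agent.EtShLib.SamePoint
import Groth.Agent.EtShLib.SuppColim

/-!
# Generalities for `p`-torsion cohomological dimension in characteristic `p`
-/

set_option autoImplicit false
set_option linter.style.haveILetI false
set_option linter.unusedSectionVars false
set_option backward.isDefEq.respectTransparency false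
set_option backward.isDefEq.respectTransparency.types false
set_option synthInstance.maxHeartbeats 400000
set_option maxHeartbeats 2000000

universe u

open CategoryTheory CategoryTheory.Limits CategoryTheory.Abelian AlgebraicGeometry Opposite Topology TopologicalSpace
open Groth.Agent.EtShLib EtSliceLib SkySumLib

noncomputable section

namespace PTorsCdLib

variable {X : Scheme.{u}}

/-- Middle term of a short exact sequence. -/
theorem subsingleton_mid {S : ShortComplex (EtCoh.Ab X)} (hS : S.ShortExact) (q : ℕ)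
    (h1 : Subsingleton (EtCoh.H X S.X₁ q)) (h3 : Subsingleton (EtCoh.H X S.X₃ q)) :
    Subsingleton (EtCoh.H X S.X₂ q) := by
  refine subsingleton_of_forall_eq 0 fun x => ?_
  obtain ⟨y, rfl⟩ := Ext.covariant_sequence_exact₂ _ hS x (h3.elim _ _)
  rw [show y = 0 from h1.elim _ _, Ext.zero_comp]

/-- Left term of a short exact sequence. -/
theorem subsingleton_left {S : ShortComplex (EtCoh.Ab X)} (hS : S.ShortExact) (q : ℕ)
    (h3 : Subsingleton (EtCoh.H X S.X₃ q)) (h2 : Subsingleton (EtCoh.H X S.X₂ (q + 1))) :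
    Subsingleton (EtCoh.H X S.X₁ (q + 1)) := by
  refine subsingleton_of_forall_eq 0 fun y => ?_
  obtain ⟨z, hz⟩ := Ext.covariant_sequence_exact₁ _ hS (y : Ext.{u + 1} _ S.X₁ (q + 1))
    (h2.elim _ _) (n₀ := q) rfl
  rw [← hz, show z = 0 from h3.elim _ _, Ext.zero_comp]

/-- A map with negligible kernel and cokernel is injective on cohomology. -/
theorem subsingleton_of_map {A B : EtCoh.Ab X} (φ : A ⟶ B) (q : ℕ)
    (hk : Subsingleton (EtCoh.H X (kernel φ) (q + 1))) (hc : Subsingleton (EtCoh.H X (cokernel φ) q))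
    (hB : Subsingleton (EtCoh.H X B (q + 1))) : Subsingleton (EtCoh.H X A (q + 1)) := by
  let S1 : ShortComplex (EtCoh.Ab X) := ShortComplex.mk (Abelian.image.ι φ) (cokernel.π φ) (kernel.condition _)
  have hS1 : S1.ShortExact :=
    { exact := ShortComplex.exact_of_f_is_kernel _ (kernelIsKernel _)
      mono_f := inferInstanceAs (Mono (Abelian.image.ι φ))
      epi_g := inferInstanceAs (Epi (cokernel.π φ)) }
  let S2 : ShortComplex (EtCoh.Ab X) := ShortComplex.mk (kernel.ι φ) (Abelian.factorThruImage φ)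
    ((cancel_mono (Abelian.image.ι φ)).1 (by rw [Category.assoc, Abelian.image.fac, kernel.condition, zero_comp]))
  have hS2 : S2.ShortExact :=
    { exact := ShortComplex.exact_of_f_is_kernel _ (KernelFork.IsLimit.ofι' _ _ fun a ha =>
        ⟨kernel.lift φ a (by rw [← Abelian.image.fac φ, ← Category.assoc, ha, zero_comp]), kernel.lift_ι _ _ _⟩)
      mono_f := inferInstanceAs (Mono (kernel.ι φ))
      epi_g := inferInstanceAs (Epi (Abelian.factorThruImage φ)) }
  exact subsingleton_mid hS2 (q + 1) hk (subsingleton_left hS1 q hc hB)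

theorem nsmul_id_of_mono {A B : EtCoh.Ab X} (ι : A ⟶ B) [Mono ι] {p : ℕ} (h : p • 𝟙 B = 0) : p • 𝟙 A = 0 := by
  rw [← cancel_mono ι, Preadditive.nsmul_comp, Category.id_comp, zero_comp, ← Category.comp_id ι,
    ← Preadditive.comp_nsmul, h, comp_zero]

theorem nsmul_id_of_epi {A B : EtCoh.Ab X} (π : A ⟶ B) [Epi π] {p : ℕ} (h : p • 𝟙 A = 0) : p • 𝟙 B = 0 := by
  rw [← cancel_epi π, Preadditive.comp_nsmul, Category.comp_id, comp_zero, ← Category.id_comp π,
    ← Preadditive.nsmul_comp, h, zero_comp]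

theorem nsmul_id_kernel {A B : EtCoh.Ab X} (φ : A ⟶ B) {p : ℕ} (h : p • 𝟙 A = 0) : p • 𝟙 (kernel φ) = 0 :=
  nsmul_id_of_mono (kernel.ι φ) h

theorem nsmul_id_cokernel {A B : EtCoh.Ab X} (φ : A ⟶ B) {p : ℕ} (h : p • 𝟙 B = 0) : p • 𝟙 (cokernel φ) = 0 :=
  nsmul_id_of_epi (cokernel.π φ) h

theorem nsmul_id_biproduct {ι : Type*} [Finite ι] (f : ι → EtCoh.Ab X) {p : ℕ} (h : ∀ i, p • 𝟙 (f i) = 0) :
    p • 𝟙 (⨁ f) = 0 := by
  refine biproduct.hom_ext' _ _ fun i => ?_
  rw [comp_zero, Preadditive.comp_nsmul, Category.comp_id, ← Category.id_comp (biproduct.ι f i),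
    ← Preadditive.nsmul_comp, h i, zero_comp]

/-- Cohomology of a finite sum. -/
theorem subsingleton_H_biproduct {ι : Type*} [Finite ι] (f : ι → EtCoh.Ab X) (q : ℕ)
    (h : ∀ i, Subsingleton (EtCoh.H X (f i) q)) : Subsingleton (EtCoh.H X (⨁ f) q) := by
  haveI := Fintype.ofFinite ι
  refine subsingleton_of_forall_eq 0 fun x => ?_
  rw [← Ext.comp_mk₀_id x, show 𝟙 (⨁ f) = ∑ i, biproduct.π f i ≫ biproduct.ι f i from
    (IsBilimit.total (biproduct.isBilimit f)).symm, Ext.mk₀_sum, Ext.comp_sum]
  refine Finset.sum_eq_zero fun i _ => ?_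
  rw [← Ext.mk₀_comp_mk₀, ← Ext.comp_assoc_of_second_deg_zero,
    (h i).elim (x.comp (Ext.mk₀ (biproduct.π f i)) (add_zero q) : EtCoh.H X (f i) q) 0, Ext.zero_comp]

/-- Zero stalks at one geometric point give zero stalks at every geometric point over the same point. -/
theorem isZero_stk_congr (F : EtCoh.Ab X) {Ω Ω' : Type u} [Field Ω] [IsSepClosed Ω] [Field Ω'] [IsSepClosed Ω']
    (ξ : Spec (CommRingCat.of Ω) ⟶ X) (ξ' : Spec (CommRingCat.of Ω') ⟶ X) (e : ξ'.base default = ξ.base default)
    (h : IsZero ((stk (A := AddCommGrpCat.{u + 1}) ξ).obj F)) :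
    IsZero ((stk (A := AddCommGrpCat.{u + 1}) ξ').obj F) := by
  obtain ⟨φ⟩ := nonempty_stk_iso_of_eq (A := AddCommGrpCat.{u + 1}) (ξ := ξ) (ξ' := ξ') e
  exact h.of_iso (φ.app F).symm

theorem isZero_stk_kernel_cokernel {A B : EtCoh.Ab X} (φ : A ⟶ B) {Ω : Type u} [Field Ω] [IsSepClosed Ω]
    (ξ : Spec (CommRingCat.of Ω) ⟶ X) (h : IsIso ((stk (A := AddCommGrpCat.{u + 1}) ξ).map φ)) :
    IsZero ((stk (A := AddCommGrpCat.{u + 1}) ξ).obj (kernel φ)) ∧
      IsZero ((stk (A := AddCommGrpCat.{u + 1}) ξ).obj (cokernel φ)) := by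
  let T := stk (A := AddCommGrpCat.{u + 1}) ξ
  haveI := h
  refine ⟨?_, ?_⟩
  · refine IsZero.of_mono_eq_zero (T.map (kernel.ι φ)) ?_
    rw [← cancel_mono (T.map φ), ← T.map_comp, kernel.condition, Functor.map_zero, zero_comp]
  · refine IsZero.of_epi_eq_zero (T.map (cokernel.π φ)) ?_
    rw [← cancel_epi (T.map φ), ← T.map_comp, cokernel.condition, Functor.map_zero, comp_zero]

/-- All points of a space of dimension at most zero are maximal. -/
theorem isMax_of_dim_le_zero (hd : topologicalKrullDim X ≤ (0 : ℕ)) (x : X) : DivSeqLib.IsMaxPt x := by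
  intro y hy
  let a : IrreducibleCloseds X := ⟨closure {x}, isIrreducible_singleton.closure, isClosed_closure⟩
  let b : IrreducibleCloseds X := ⟨closure {y}, isIrreducible_singleton.closure, isClosed_closure⟩
  have hab : a ≤ b := specializes_iff_closure_subset.1 hy
  have hmax : IsMax a := Order.krullDim_nonpos_iff_forall_isMax.mp (by simpa [topologicalKrullDim] using hd) a
  have e : (closure {x} : Set X) = closure {y} := subset_antisymm hab (hmax hab)
  exact (isGenericPoint_closure (x := y)).eq (e ▸ isGenericPoint_closure (x := x))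

/-- A closed set without maximal points has smaller dimension. -/
theorem dim_le_of_no_max {m : ℕ} (hX : topologicalKrullDim X ≤ (m + 1 : ℕ)) {T : Set X} (hT : IsClosed T)
    (h : ∀ x ∈ T, ¬ DivSeqLib.IsMaxPt x) : topologicalKrullDim T ≤ m := by
  refine iSup_le fun l => ?_
  have hi := hT.isClosedEmbedding_subtypeVal.isInducing
  let F : IrreducibleCloseds T → IrreducibleCloseds X :=
    IrreducibleCloseds.map (Subtype.val : T → X) continuous_subtype_val
  let L : LTSeries (IrreducibleCloseds X) := l.map F (IrreducibleCloseds.map_strictMono_of_isInducing hi)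
  obtain ⟨z, hz⟩ := QuasiSober.sober L.last.isIrreducible L.last.isClosed
  have hLlast : L.last = F l.last := LTSeries.last_map _ _ _
  have hzT : z ∈ T := by
    have h1 : z ∈ (F l.last : Set X) := hLlast ▸ hz.mem
    exact ((closure_mono (Subtype.coe_image_subset T (l.last : Set T))).trans hT.closure_eq.le) h1
  obtain ⟨η, hη, hne⟩ : ∃ η, η ⤳ z ∧ η ≠ z := by
    have := h z hzT
    simp only [DivSeqLib.IsMaxPt, not_forall] at this
    obtain ⟨η, hη, hne⟩ := this
    exact ⟨η, hη, hne⟩
  let top : IrreducibleCloseds X := ⟨closure {η}, isIrreducible_singleton.closure, isClosed_closure⟩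
  have hlt : L.last < top := by
    refine lt_of_le_of_ne (fun y hy => ?_) fun he => hne ?_
    · exact specializes_iff_mem_closure.mp (hη.trans (hz.specializes hy))
    · have he' : (L.last : Set X) = closure {η} := congrArg (fun s : IrreducibleCloseds X => (s : Set X)) he
      rw [he'] at hz
      exact (isGenericPoint_closure (x := η)).eq hz
  have hlen : (((L.snoc top hlt).length : ℕ) : WithBot ℕ∞) ≤ ((m + 1 : ℕ) : WithBot ℕ∞) :=
    (le_iSup (fun s : LTSeries (IrreducibleCloseds X) => ((s.length : ℕ) : WithBot ℕ∞)) (L.snoc top hlt)).trans hX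
  have h2 : (L.snoc top hlt).length = l.length + 1 := rfl
  rw [h2] at hlen
  exact Nat.cast_le.2 (by simpa using (Nat.cast_le (α := WithBot ℕ∞)).1 hlen)

/-- Fields of characteristic `p` have `p`-cohomological dimension at most one. -/
theorem subsingleton_H_field {K : Type u} [Field K] (p : ℕ) [hp : Fact p.Prime] [CharP K p]
    (G : EtCoh.Ab (Spec (CommRingCat.of K))) (hG : p • 𝟙 G = 0) (q : ℕ) (hq : 1 < q) :
    Subsingleton (EtCoh.H (Spec (CommRingCat.of K)) G q) :=
  subsingleton_of_forall_eq 0 fun x => CdOneLib.pcd_le p (CdOneLib.hypP_two_of_charP K p) G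
    (CdOneLib.isTorsion_of_nsmul_id p hp.out.pos hG) q hq x ⟨1, by rw [pow_one]; exact CdOneLib.nsmul_ext p hG x⟩

end PTorsCdLib

end
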