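import Groth.Agent.PTorsCdLib.Gen
import Groth.Agent.CovDevLib.Devissage
import Groth.Agent.S14451

/-!
# Sheaves vanishing at the maximal points
-/

set_option autoImplicit false
set_option linter.style.haveILetI false
set_option linter.unusedSectionVars false
set_option backward.isDefEq.respectTransparency false
set_option backward.isDefEq.respectTransparency.types false
set_option synthInstance.maxHeartbeats 400000
set_option maxHeartbeats 2000000

universe u

open CategoryTheory CategoryTheory.Limits CategoryTheory.Abelian AlgebraicGeometry Opposite Topology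
open Groth.Agent.EtShLib

noncomputable section

namespace PTorsCdLib

attribute [local instance] EtSliceLib.pullExact

variable (k : Type u) [Field k] (p : ℕ)

/-- Vanishing above `n` for proper schemes of dimension at most `n`. -/
def Van (n : ℕ) : Prop :=
  ∀ (Z : Scheme.{u}) (f : Z ⟶ Spec (CommRingCat.of k)), IsProper f → topologicalKrullDim Z ≤ n →
    ∀ F : EtCoh.Ab Z, p • 𝟙 F = 0 → ∀ q : ℕ, n < q → Subsingleton (EtCoh.H Z F q)

variable {k p}

/-- Zero stalks at the maximal points. -/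
def ZeroAtMax {Z : Scheme.{u}} (F : EtCoh.Ab Z) : Prop :=
  ∀ (Ω : Type u) [Field Ω] [IsSepClosed Ω] (ξ : Spec (CommRingCat.of Ω) ⟶ Z),
    DivSeqLib.IsMaxPt (ξ.base default) → IsZero ((stk (A := AddCommGrpCat.{u + 1}) ξ).obj F)

theorem zeroAtMax_of_exists {Z : Scheme.{u}} (F : EtCoh.Ab Z)
    (h : ∀ x : Z, DivSeqLib.IsMaxPt x → ∃ (Ω : Type u) (_ : Field Ω) (_ : IsSepClosed Ω)
      (ξ : Spec (CommRingCat.of Ω) ⟶ Z), ξ.base default = x ∧ IsZero ((stk (A := AddCommGrpCat.{u + 1}) ξ).obj F)) :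
    ZeroAtMax F := fun Ω _ _ ξ hξ => by
  obtain ⟨Ω', _, _, ξ', he, hz⟩ := h _ hξ
  exact isZero_stk_congr F ξ' ξ he.symm hz

/-- Sheaves supported on a closed subset of smaller dimension. -/
theorem subsingleton_H_supported {Z : Scheme.{u}} (f : Z ⟶ Spec (CommRingCat.of k)) [IsProper f] {m : ℕ}
    (ih : Van k p m) (G : EtCoh.Ab Z) (hG : p • 𝟙 G = 0) {T : Set Z} (hT : IsClosed T)
    (hd : topologicalKrullDim T ≤ m) (hsupp : EtPBC.supp G ⊆ T) (q : ℕ) (hq : m < q) :
    Subsingleton (EtCoh.H Z G q) := by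
  let I := Scheme.IdealSheafData.vanishingIdeal (X := Z) ⟨T, hT⟩
  let i : I.subscheme ⟶ Z := I.subschemeι
  have hr : Set.range i.base = T := I.range_subschemeι.trans
    (Scheme.IdealSheafData.coe_support_vanishingIdeal (X := Z) ⟨T, hT⟩)
  have hd' : topologicalKrullDim I.subscheme ≤ m :=
    ((i.isEmbedding.toHomeomorph.trans (Homeomorph.setCongr hr)).isHomeomorph.topologicalKrullDim_eq).trans_le hd
  haveI : (EtCoh.pull i).IsLeftAdjoint := (EtCoh.pullPushAdj i).isLeftAdjoint
  haveI : (EtCoh.pull i).Additive := { }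
  haveI := ih I.subscheme (i ≫ f) inferInstance hd' ((EtCoh.pull i).obj G)
    (CdPrimeLib.nsmul_id_map (EtCoh.pull i) hG) q hq
  haveI : IsIso ((EtCoh.pullPushAdj i).unit.app G) := by
    refine unit_isIso_of_vanish i G fun U hU => ?_
    refine ⟨fun a b => eq_of_germ (A := AddCommGrpCat.{u + 1}) G a b fun Ω _ _ ξ w => ?_⟩
    refine @Subsingleton.elim _ (AddCommGrpCat.subsingleton_of_isZero (isZero_stalk_of_notMem_supp ξ ?_)) _ _
    intro hm
    refine hU ⟨w.pt, ?_⟩ (hr ▸ hsupp hm)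
    show U.hom.base (w.hom.base default) = ξ.base default
    exact congrArg (fun t : Spec (CommRingCat.of Ω) ⟶ Z => t.base default) w.w
  haveI : Subsingleton (EtCoh.H Z ((EtCoh.push i).obj ((EtCoh.pull i).obj G)) q) :=
    ⟨fun a b => (Groth.Agent.S14451.result i ((EtCoh.pull i).obj G)
      (fun j hj => isZero_rightDerived_push_finite i _ j hj) q).1 (Subsingleton.elim _ _)⟩
  refine subsingleton_of_forall_eq 0 fun x => ?_
  rw [← Ext.comp_mk₀_id x, show 𝟙 G = (EtCoh.pullPushAdj i).unit.app G ≫ inv ((EtCoh.pullPushAdj i).unit.app G) from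
      (IsIso.hom_inv_id _).symm, ← Ext.mk₀_comp_mk₀,
    ← Ext.comp_assoc_of_second_deg_zero,
    Subsingleton.elim (α := EtCoh.H Z ((EtCoh.push i).obj ((EtCoh.pull i).obj G)) q)
      (x.comp (Ext.mk₀ ((EtCoh.pullPushAdj i).unit.app G)) (add_zero q)) 0, Ext.zero_comp]

/-- Sheaves vanishing at the maximal points. -/
theorem small [hp : Fact p.Prime] {Z : Scheme.{u}} (f : Z ⟶ Spec (CommRingCat.of k)) [IsProper f] (n : ℕ)
    (hZ : topologicalKrullDim Z ≤ n) (ih : ∀ m, m < n → Van k p m) (F : EtCoh.Ab Z) (hF : p • 𝟙 F = 0)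
    (h0 : ZeroAtMax F) (q : ℕ) (hq : n ≤ q) : Subsingleton (EtCoh.H Z F q) := by
  haveI : IsLocallyNoetherian Z := LocallyOfFiniteType.isLocallyNoetherian f
  haveI : CompactSpace Z := QuasiCompact.compactSpace_of_compactSpace f
  haveI : IsNoetherian Z := { }
  rcases n with _ | m
  · refine EtBcBridgeLib.subsingleton_H_of_isZero ?_ q
    rw [IsZero.iff_id_eq_zero]
    haveI : IsIso (0 : F ⟶ F) := isIso_of_stalks (A := AddCommGrpCat.{u + 1}) _ fun Ω _ _ ξ =>
      have hz := h0 Ω ξ (isMax_of_dim_le_zero hZ _)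
      ⟨0, hz.eq_of_src _ _, hz.eq_of_src _ _⟩
    rw [← cancel_mono (0 : F ⟶ F)]
    simp
  refine subsingleton_of_forall_eq 0 fun x => ?_
  haveI := isFiltered_consOver F
  haveI := CovDevLib.preservesColimits_H (S := Z) q (ConsOver F)
  obtain ⟨hc⟩ := nonempty_isColimit_consCocone F
    (torsionBy_of_isTorsion (CdOneLib.isTorsion_of_nsmul_id p hp.out.pos hF))
  obtain ⟨r, z, hz⟩ := CovDevLib.exists_rep_of_colimit (𝟭 (EtCoh.Ab Z))
    (Abelian.extFunctorObj.{u + 1} (EtCoh.const Z ℤ) q) hc x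
  have hz' : Ext.comp (z : Ext.{u + 1} _ _ q) (Ext.mk₀ ((consCocone F).ι.app r)) (add_zero q) = x := hz
  let E : Set Z := {y | ¬ DivSeqLib.IsMaxPt y}
  have hE : StableUnderSpecialization E := fun a b hab ha hb => ha (hb a hab ▸ hb)
  have hsupp : EtPBC.supp F ⊆ E := supp_subset_of_stalk_zero fun Ω _ _ ξ hξ => h0 Ω ξ (not_not.1 hξ)
  obtain ⟨G', π, g', -, hfac, T, hT, hTE, hGT⟩ := exists_image_supported hE hsupp _ ((consCocone F).ι.app r)
    (PresOver.isCons (F := F) r)
  have hx : x = Ext.comp (Ext.comp (z : Ext.{u + 1} _ _ q) (Ext.mk₀ π) (add_zero q)) (Ext.mk₀ g') (add_zero q) := by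
    rw [Ext.comp_assoc_of_second_deg_zero, Ext.mk₀_comp_mk₀, hfac]
    exact hz'.symm
  -- the image in `F` is killed by `p`
  let J := Abelian.image g'
  have hJs : EtPBC.supp J ⊆ T := by
    refine supp_subset_of_stalk_zero fun Ω _ _ ξ hξ => ?_
    haveI : Epi ((stk (A := AddCommGrpCat.{u + 1}) ξ).map (Abelian.factorThruImage g')) := inferInstance
    exact IsZero.of_epi ((stk (A := AddCommGrpCat.{u + 1}) ξ).map (Abelian.factorThruImage g'))
      (isZero_stalk_of_notMem_supp ξ fun h => hξ (hGT h))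
  haveI := subsingleton_H_supported f (ih m (by omega)) J (nsmul_id_of_mono (Abelian.image.ι g') hF) hT
    (dim_le_of_no_max hZ hT hTE) hJs q (by omega)
  rw [hx, ← Abelian.image.fac g', ← Ext.mk₀_comp_mk₀, ← Ext.comp_assoc_of_second_deg_zero,
    Subsingleton.elim (α := EtCoh.H Z J q) (Ext.comp (Ext.comp (z : Ext.{u + 1} _ _ q) (Ext.mk₀ π) (add_zero q))
      (Ext.mk₀ (Abelian.factorThruImage g')) (add_zero q)) 0, Ext.zero_comp]

end PTorsCdLib

end
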